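import Groth.Agent.H14.QARes.Node
import Groth.Agent.H14.CovRes.Curve

/-!
Charts of the fibres over the classifying stack.
-/

set_option autoImplicit false
set_option backward.isDefEq.respectTransparency false
set_option backward.isDefEq.respectTransparency.types false
set_option linter.style.haveILetI false

universe u

open CategoryTheory CategoryTheory.Limits MonoidalCategory CartesianMonoidalCategory MonObj AlgebraicGeometry
open StMod (sch bmap fibCat)
open Groth.Agent.Lib
open Groth.Agent.Lib.QuotSt (point)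
open Groth.Agent.H14.GenFam

namespace Groth.Agent.H14.QARes

variable {S : Scheme.{u}} {G U : Over S} [GrpObj G] {aU : AlgGrp.Action G U}

theorem node_hom_ext {V' V : Over S} {x' : V' ⟶ U} {x : V ⟶ U} {y : (AlgSt.BG Scheme.fppfPrecoverage G).obj}
    {s' : V' ⟶ y.P} {s : V ⟶ y.P} {a b : node (aU := aU) x' s' ⟶ node x s}
    (h : point (x := x') a.left = point (x := x') b.left) : a = b :=
  CostructuredArrow.hom_ext _ _ (QuotSt.hom_ext_of_point (x := x') h)

theorem isAffineHom_of_separated {X Y : Scheme.{u}} [IsAffine X] [Y.IsSeparated] (f : X ⟶ Y) : IsAffineHom f := by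
  haveI : IsAffineHom (f ≫ terminal.from Y) := inferInstance
  exact IsAffineHom.of_comp f (terminal.from Y)

variable [IsAffine S] [IsAffineHom G.hom] [Flat G.hom]

set_option maxHeartbeats 1000000 in
/-- A chart of the fibre over an affine object, from an affine cover of the scheme. -/
theorem exists_fibre_chart [U.left.IsSeparated] {U0 : Over S} (j : U0 ⟶ U) [IsAffine U0.left] [Flat j.left]
    [Surjective j.left] (y : (AlgSt.BG Scheme.fppfPrecoverage G).obj)
    (hy : IsAffine (sch (AlgSt.BG Scheme.fppfPrecoverage G) y)) : Nonempty (Chart (fibCat (forget aU) y)) := by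
  have hK : (Scheme.fppfPrecoverage : Precoverage Scheme.{u}) ≤ Scheme.fpqcPrecoverage :=
    Scheme.fppfPrecoverage_le_fpqcPrecoverage
  haveI : IsAffine y.base.left := hy
  haveI : IsAffineHom y.π.left := QuotSt.property_π hK y (inferInstance : IsAffineHom G.hom)
  haveI : IsAffine y.P.left := isAffine_of_isAffineHom y.π.left
  haveI : IsAffineHom y.P.hom := inferInstance
  haveI : IsAffine (y.P ⊗ U0).left := QuotGood.isAffine_tensor
  haveI : IsAffine (G ⊗ (y.P ⊗ U0)).left := QuotGood.isAffine_tensor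
  let V0 := y.P ⊗ U0
  let x0 : V0 ⟶ U := snd y.P U0 ≫ j
  let s0 : V0 ⟶ y.P := fst y.P U0
  let A : G ⊗ V0 ⟶ y.P ⊗ U := lift (lift (fst G V0) (snd G V0 ≫ s0) ≫ y.act.act)
    (lift (fst G V0) (snd G V0 ≫ x0) ≫ aU.act)
  let j0 : V0 ⟶ y.P ⊗ U := lift s0 x0
  haveI : (y.P ⊗ U).left.IsSeparated := by
    haveI : IsSeparated U.hom := inferInstance
    haveI : IsSeparated (pullback.fst y.P.hom U.hom) := inferInstance
    exact show (pullback y.P.hom U.hom).IsSeparated from
      ⟨by rw [show terminal.from (pullback y.P.hom U.hom) = pullback.fst y.P.hom U.hom ≫ terminal.from _ from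
        terminal.hom_ext _ _]; infer_instance⟩
  haveI : IsAffineHom j0.left := isAffineHom_of_separated j0.left
  let W : Over S := Over.mk (pullback.fst A.left j0.left ≫ (G ⊗ V0).hom)
  let π₁ : W ⟶ G ⊗ V0 := Over.homMk (pullback.fst A.left j0.left)
  let π₂ : W ⟶ V0 := Over.homMk (pullback.snd A.left j0.left) (by
    show pullback.snd A.left j0.left ≫ V0.hom = pullback.fst A.left j0.left ≫ (G ⊗ V0).hom
    rw [← Over.w j0, ← Over.w A, pullback.condition_assoc])
  haveI : IsAffine W.left := show IsAffine (pullback A.left j0.left) from isAffine_of_isAffineHom (pullback.fst A.left j0.left)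
  have hπ : π₁ ≫ A = π₂ ≫ j0 := Over.OverMorphism.ext pullback.condition
  have hπs : π₁ ≫ lift (fst G V0) (snd G V0 ≫ s0) ≫ y.act.act = π₂ ≫ s0 := by
    have := congrArg (· ≫ fst y.P U) hπ
    simpa [A, j0] using this
  have hπx : π₁ ≫ lift (fst G V0) (snd G V0 ≫ x0) ≫ aU.act = π₂ ≫ x0 := by
    have := congrArg (· ≫ snd y.P U) hπ
    simpa [A, j0] using this
  obtain ⟨p, hp, -⟩ := exists_node_hom (aU := aU) (y := y) (π₂ ≫ x0) x0 (π₂ ≫ s0) s0 (π₁ ≫ snd G V0)
    (π₁ ≫ fst G V0) (by rw [← hπx, Category.assoc, ← comp_lift_assoc])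
    (by rw [← hπs, Category.assoc, ← comp_lift_assoc])
  obtain ⟨r, hr, -⟩ := exists_node_hom (aU := aU) (y := y) (π₂ ≫ x0) x0 (π₂ ≫ s0) s0 π₂ (1 : W ⟶ G)
    (Lib.QuotSt.Act.one_smul _ _) (Lib.QuotSt.Act.one_smul _ _)
  refine ⟨{
    x := node x0 s0
    w := node (π₂ ≫ x0) (π₂ ≫ s0)
    affx := show IsAffine V0.left from inferInstance
    affw := show IsAffine W.left from inferInstance
    p := p
    q := r
    cover := fun o ho => ?_
    overlap := fun o ho a b => ?_ }⟩
  · haveI : IsAffine o.left.base.left := ho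
    haveI : IsAffineHom o.left.π.left := QuotSt.property_π hK o.left (inferInstance : IsAffineHom G.hom)
    haveI hP : IsAffine o.left.P.left := isAffine_of_isAffineHom o.left.π.left
    have hf : Flat o.left.π.left := QuotSt.property_π hK o.left (inferInstance : Flat G.hom)
    have hs : Surjective o.left.π.left := Lib.QuotSt.surjective_π hK o.left
    let σ : Over.mk (pullback.fst o.left.φ.left j.left ≫ o.left.P.hom) ⟶ o.left.P :=
      Over.homMk (pullback.fst o.left.φ.left j.left)
    let τ : Over.mk (pullback.fst o.left.φ.left j.left ≫ o.left.P.hom) ⟶ U0 :=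
      Over.homMk (pullback.snd o.left.φ.left j.left) (by
        show pullback.snd o.left.φ.left j.left ≫ U0.hom = pullback.fst o.left.φ.left j.left ≫ o.left.P.hom
        rw [← Over.w j, ← Over.w o.left.φ, pullback.condition_assoc])
    have hj : σ ≫ o.left.φ = τ ≫ j := Over.OverMorphism.ext pullback.condition
    haveI hj' : IsAffineHom j.left := isAffineHom_of_separated j.left
    have hP0 : IsAffine (pullback o.left.φ.left j.left) := isAffine_of_isAffineHom (pullback.fst o.left.φ.left j.left)
    obtain ⟨s, k, hk⟩ := exists_node_to o σ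
    have hbase : k.left.base.left = pullback.fst o.left.φ.left j.left ≫ o.left.π.left := by
      rw [hk]
      rfl
    let D : Cover (𝒳 := fibCat (forget aU) y) o (Fin 1) :=
      { E := fun _ => node (σ ≫ o.left.φ) s
        aff := fun _ => hP0
        e := fun _ => k
        flat := fun _ => by show Flat k.left.base.left; rw [hbase]; infer_instance
        surj := fun z => ⟨0, by show z ∈ Set.range k.left.base.left; rw [hbase]; exact Surjective.surj z⟩ }
    obtain ⟨c, -, -⟩ := exists_node_hom (aU := aU) (y := y) (σ ≫ o.left.φ) x0 s s0 (lift s τ) 1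
      (by rw [Lib.QuotSt.Act.one_smul]; show lift s τ ≫ snd y.P U0 ≫ j = _; rw [lift_snd_assoc, hj])
      (by rw [Lib.QuotSt.Act.one_smul]; exact lift_fst _ _)
    exact ⟨1, D, fun _ => ⟨c⟩⟩
  · haveI : IsAffine o.left.base.left := ho
    obtain ⟨σ, hσ⟩ := exists_section a
    obtain ⟨s, k, hk⟩ := exists_node_to o σ
    rw [hσ] at hk
    obtain ⟨ca, ta, hca, -, hax, has⟩ := node_hom_eqs (k ≫ a)
    obtain ⟨cb, tb, hcb, -, hbx, hbs⟩ := node_hom_eqs (k ≫ b)
    let gT : o.left.base ⟶ G ⊗ V0 := lift (cb⁻¹ * ca) ta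
    have hgT : gT ≫ A = tb ≫ j0 := by
      apply CartesianMonoidalCategory.hom_ext
      · simp only [A, j0, gT, Category.assoc, lift_fst]
        rw [comp_lift_assoc, lift_fst, lift_snd_assoc, Lib.QuotSt.Act.mul_smul, has, ← hbs,
          ← Lib.QuotSt.Act.mul_smul, inv_mul_cancel, Lib.QuotSt.Act.one_smul]
      · simp only [A, j0, gT, Category.assoc, lift_snd]
        rw [comp_lift_assoc, lift_fst, lift_snd_assoc, Lib.QuotSt.Act.mul_smul, hax, ← hbx,
          ← Lib.QuotSt.Act.mul_smul, inv_mul_cancel, Lib.QuotSt.Act.one_smul]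
    let l : o.left.base ⟶ W := Over.homMk (pullback.lift gT.left tb.left (congrArg CommaMorphism.left hgT)) (by
      show pullback.lift _ _ _ ≫ pullback.fst A.left j0.left ≫ (G ⊗ V0).hom = _
      rw [pullback.lift_fst_assoc, Over.w gT])
    have hl₁ : l ≫ π₁ = gT := Over.OverMorphism.ext (pullback.lift_fst _ _ _)
    have hl₂ : l ≫ π₂ = tb := Over.OverMorphism.ext (pullback.lift_snd _ _ _)
    obtain ⟨c, hc, -⟩ := exists_node_hom (aU := aU) (y := y) (σ ≫ o.left.φ) (π₂ ≫ x0) s (π₂ ≫ s0) l cb
      (by rw [← Category.assoc, hl₂, hbx]) (by rw [← Category.assoc, hl₂, hbs])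
    let D : Cover (𝒳 := fibCat (forget aU) y) o PUnit.{u + 1} :=
      { E := fun _ => node (σ ≫ o.left.φ) s
        aff := fun _ => ho
        e := fun _ => k
        flat := fun _ => by show Flat k.left.base.left; rw [hk]; exact (inferInstance : Flat (𝟙 o.left.base.left))
        surj := fun z => ⟨⟨⟩, z, by show k.left.base.left z = z; rw [hk]; rfl⟩ }
    refine ⟨PUnit, inferInstance, D, fun _ => ⟨c, node_hom_ext ?_, node_hom_ext ?_⟩⟩
    · refine (QuotGood.comp_point aU c.left p.left hc).trans ?_
      rw [hp, comp_lift, ← Category.assoc, ← Category.assoc, hl₁]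
      show lift cb (lift (gT ≫ fst G V0) (gT ≫ snd G V0)) ≫ (AlgSt.leftMul G V0).act = _
      rw [QuotSt.lift_leftMul, lift_fst, lift_snd, mul_inv_cancel_left]
      exact hca.symm
    · refine (QuotGood.comp_point aU c.left r.left hc).trans ?_
      rw [hr, comp_lift, MonObj.comp_one, hl₂]
      show lift cb (lift (1 : o.left.base ⟶ G) tb) ≫ (AlgSt.leftMul G V0).act = _
      rw [QuotSt.lift_leftMul, _root_.mul_one]
      exact hcb.symm

end Groth.Agent.H14.QARes
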