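import Groth.Agent.H14.CovRes.Main
import Groth.Agent.H14.GenFam.PushApp

/-!
Resolutions from generating families of vector bundles.
-/

set_option autoImplicit false
set_option backward.isDefEq.respectTransparency false
set_option backward.isDefEq.respectTransparency.types false
set_option linter.style.haveILetI false

universe u v

open CategoryTheory CategoryTheory.Limits AlgebraicGeometry TensorProduct
open StMod (sch bmap)
open Groth.Agent.Lib Groth.Agent.Lib.AlgStack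
open Groth.Agent.H14.ModDesc
open Groth.Agent.H14.GenFam (FlatFun Cover bc_induction mapHom isBC_mapHom)
open Groth.Agent.H14.MultiExt (FlatHom)

namespace Groth.Agent.H14.QARes

variable {S : Scheme.{u}} {𝒳 : AlgSt.Cat S} {ι : Type v} (E : ι → StMod.QCoh 𝒳) (F : StMod.QCoh 𝒳)

/-- The value of a morphism at an object, as a linear map. -/
noncomputable def appL {M N : StMod.QCoh 𝒳} (q : M.obj ⟶ N.obj) (o : 𝒳.obj) :
    Γ(M.obj.obj o, ⊤) →ₗ[Γ(sch 𝒳 o, ⊤)] Γ(N.obj.obj o, ⊤) where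
  toFun s := (q.app o).app ⊤ s
  map_add' a b := map_add _ a b
  map_smul' r a := Scheme.Modules.Hom.app_smul (q.app o) r a

/-- The image of the family. -/
noncomputable def imgSub (o : 𝒳.obj) : Submodule Γ(sch 𝒳 o, ⊤) Γ(F.obj.obj o, ⊤) :=
  ⨆ p : Σ i, (E i).obj ⟶ F.obj, LinearMap.range (appL p.2 o)

theorem mapTop_mem {o' o : 𝒳.obj} (e : o' ⟶ o) {t : Γ(F.obj.obj o, ⊤)} (ht : t ∈ imgSub E F o) :
    F.obj.mapTop e t ∈ imgSub E F o' := by
  refine Submodule.iSup_induction _ (motive := fun t => F.obj.mapTop e t ∈ imgSub E F o') ht (fun p t ht => ?_)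
    (by rw [StMod.Mod.mapTop_zero]; exact Submodule.zero_mem _) fun a b ha hb => ?_
  · obtain ⟨s, rfl⟩ := ht
    refine Submodule.mem_iSup_of_mem p ⟨(E p.1).obj.mapTop e s, ?_⟩
    exact (StMod.Mod.mapTop_app p.2 e s).symm
  · rw [StMod.Mod.mapTop_add]
    exact Submodule.add_mem _ ha hb

/-- The restriction of the cokernel. -/
noncomputable def cokRes {o' o : 𝒳.obj} [IsAffine (sch 𝒳 o')] [IsAffine (sch 𝒳 o)] (e : o' ⟶ o) :
    Γ(F.obj.obj o, ⊤) ⧸ imgSub E F o →+ Γ(F.obj.obj o', ⊤) ⧸ imgSub E F o' :=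
  QuotientAddGroup.lift (imgSub E F o).toAddSubgroup
    ((imgSub E F o').mkQ.toAddMonoidHom.comp (mapHom F.obj e))
    fun t ht => (Submodule.Quotient.mk_eq_zero _).2 (mapTop_mem E F e ht)

theorem cokRes_mk {o' o : 𝒳.obj} [IsAffine (sch 𝒳 o')] [IsAffine (sch 𝒳 o)] (e : o' ⟶ o)
    (t : Γ(F.obj.obj o, ⊤)) :
    cokRes E F e (Submodule.Quotient.mk t) = Submodule.Quotient.mk (F.obj.mapTop e t) := rfl

theorem isSL_cokRes {o' o : 𝒳.obj} [IsAffine (sch 𝒳 o')] [IsAffine (sch 𝒳 o)] (e : o' ⟶ o) :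
    IsSL (bmap 𝒳 e).appTop.hom (cokRes E F e) := fun r y => by
  obtain ⟨t, rfl⟩ := Submodule.Quotient.mk_surjective _ y
  rw [← Submodule.Quotient.mk_smul, cokRes_mk, cokRes_mk, ← Submodule.Quotient.mk_smul]
  exact congrArg _ ((isBC_mapHom F e).sl r t)

set_option maxHeartbeats 800000 in
theorem isBC_cokRes {o' o : 𝒳.obj} [IsAffine (sch 𝒳 o')] [IsAffine (sch 𝒳 o)] (e : o' ⟶ o) :
    IsBC (bmap 𝒳 e).appTop.hom (cokRes E F e) := by
  let := (bmap 𝒳 e).appTop.hom.toAlgebra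
  obtain ⟨hs, hb⟩ := (isBC_iff rfl).1 (isBC_mapHom F e)
  let A := Γ(sch 𝒳 o, ⊤)
  let B := Γ(sch 𝒳 o', ⊤)
  let I := imgSub E F o
  have key : ∀ z, bcMap A B (cokRes E F e) (isSL_cokRes E F e) (I.mkQ.lTensor B z) =
      Submodule.Quotient.mk (bcMap A B (mapHom F.obj e) hs z) := fun z => by
    induction z with
    | zero => simp
    | tmul b y => rw [LinearMap.lTensor_tmul, bcMap_tmul, bcMap_tmul, Submodule.mkQ_apply, cokRes_mk]; rfl
    | add a b ha hb => simp only [map_add, ha, hb, Submodule.Quotient.mk_add]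
  have hmem : ∀ y ∈ imgSub E F o', ∃ w, bcMap A B (mapHom F.obj e) hs (I.subtype.lTensor B w) = y := fun y hy => by
    refine Submodule.iSup_induction _
      (motive := fun y => ∃ w, bcMap A B (mapHom F.obj e) hs (I.subtype.lTensor B w) = y) hy (fun p y hy => ?_)
      ⟨0, by simp⟩ fun a b ha hb => ?_
    · obtain ⟨s, rfl⟩ := hy
      refine bc_induction (isBC_mapHom (E p.1) e)
        (P := fun s => ∃ w, bcMap A B (mapHom F.obj e) hs (I.subtype.lTensor B w) = appL p.2 o' s)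
        ⟨0, by simp⟩ (fun a b ha hb => ?_) (fun b m => ?_) s
      · obtain ⟨w, hw⟩ := ha
        obtain ⟨w', hw'⟩ := hb
        exact ⟨w + w', by rw [map_add, map_add, hw, hw', ← map_add (appL p.2 o')]⟩
      · refine ⟨b ⊗ₜ ⟨appL p.2 o m, Submodule.mem_iSup_of_mem p ⟨m, rfl⟩⟩, ?_⟩
        rw [LinearMap.lTensor_tmul, bcMap_tmul, map_smul]
        exact congrArg (b • ·) (StMod.Mod.mapTop_app p.2 e m)
    · obtain ⟨w, hw⟩ := ha
      obtain ⟨w', hw'⟩ := hb
      exact ⟨w + w', by rw [map_add, map_add, hw, hw']⟩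
  have hsurj : Function.Surjective (I.mkQ.lTensor B) := LinearMap.lTensor_surjective B I.mkQ_surjective
  refine (isBC_iff rfl).2 ⟨isSL_cokRes E F e, (injective_iff_map_eq_zero _).2 fun t ht => ?_, fun y => ?_⟩
  · obtain ⟨z, rfl⟩ := hsurj t
    rw [key, Submodule.Quotient.mk_eq_zero] at ht
    obtain ⟨w, hw⟩ := hmem _ ht
    rw [← hb.1 hw, ← LinearMap.comp_apply, ← LinearMap.lTensor_comp,
      show I.mkQ ∘ₗ I.subtype = 0 from LinearMap.ext fun x => (Submodule.Quotient.mk_eq_zero _).2 x.2,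
      LinearMap.lTensor_zero, LinearMap.zero_apply]
  · obtain ⟨y', rfl⟩ := Submodule.Quotient.mk_surjective _ y
    obtain ⟨z, hz⟩ := hb.2 y'
    exact ⟨I.mkQ.lTensor B z, (key z).trans (congrArg _ hz)⟩

/-- The cokernel of the family. -/
noncomputable def cokFlat : FlatFun 𝒳 where
  obj o := Γ(F.obj.obj o, ⊤) ⧸ imgSub E F o
  res := fun {_ _} _ _ e => cokRes E F e
  sl := fun {_ _} _ _ e => isSL_cokRes E F e
  res_id o _ y := by
    obtain ⟨t, rfl⟩ := Submodule.Quotient.mk_surjective _ y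
    rw [cokRes_mk, F.obj.mapTop_id]
  res_comp := fun {_ _ _} _ _ _ e' e y => by
    obtain ⟨t, rfl⟩ := Submodule.Quotient.mk_surjective _ y
    rw [cokRes_mk, cokRes_mk, cokRes_mk, F.obj.mapTop_comp]
  bc := fun {_ _} _ _ e _ => isBC_cokRes E F e

/-- The product of finitely many modules. -/
noncomputable def piFlat {n : ℕ} (M : Fin n → StMod.QCoh 𝒳) : FlatFun 𝒳 where
  obj o := ∀ k, Γ((M k).obj.obj o, ⊤)
  res := fun {_ _} _ _ e => AddMonoidHom.mk' (fun s k => (M k).obj.mapTop e (s k))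
    fun a b => funext fun k => StMod.Mod.mapTop_add (M k).obj e (a k) (b k)
  sl := fun {_ _} _ _ e r s => funext fun k => (isBC_mapHom (M k) e).sl r (s k)
  res_id o _ s := funext fun k => (M k).obj.mapTop_id o (s k)
  res_comp := fun {_ _ _} _ _ _ e' e s => funext fun k => (M k).obj.mapTop_comp e' e (s k)
  bc := fun {o' o} _ _ e _ => by
    let := (bmap 𝒳 e).appTop.hom.toAlgebra
    let A := Γ(sch 𝒳 o, ⊤)
    let B := Γ(sch 𝒳 o', ⊤)
    have h := fun k => (isBC_iff rfl).1 (isBC_mapHom (M k) e)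
    let P := TensorProduct.piRight A A B (fun k => Γ((M k).obj.obj o, ⊤))
    refine (isBC_iff rfl).2 ⟨fun r s => funext fun k => (isBC_mapHom (M k) e).sl r (s k), ?_⟩
    have key : ∀ t, bcMap A B (N := ∀ k, Γ((M k).obj.obj o', ⊤))
        (AddMonoidHom.mk' (fun s k => (M k).obj.mapTop e (s k))
          fun a b => funext fun k => StMod.Mod.mapTop_add (M k).obj e (a k) (b k))
        (fun r s => funext fun k => (isBC_mapHom (M k) e).sl r (s k)) t =
        fun k => bcMap A B (mapHom (M k).obj e) (h k).choose (P t k) := fun t => by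
      induction t with
      | zero => funext k; simp
      | tmul b s =>
        funext k
        rw [bcMap_tmul, TensorProduct.piRight_apply, TensorProduct.piRightHom_tmul, bcMap_tmul]
        rfl
      | add a b ha hb =>
        funext k
        rw [map_add, map_add, Pi.add_apply, Pi.add_apply, map_add, ha, hb]
    refine ⟨fun a b hab => P.injective (funext fun k => (h k).choose_spec.1 ?_), fun y => ?_⟩
    · exact congrFun ((key a).symm.trans (hab.trans (key b))) k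
    · choose z hz using fun k => (h k).choose_spec.2 (y k)
      refine ⟨P.symm z, (key _).trans (funext fun k => ?_)⟩
      rw [LinearEquiv.apply_symm_apply]
      exact hz k

variable {E F}

theorem map_lincomb {R M₁ M₂ N : Type*} [CommRing R] [AddCommGroup M₁] [Module R M₁] [AddCommGroup M₂]
    [Module R M₂] [AddCommGroup N] [Module R N] (g : M₁ →ₗ[R] N) (f : M₂ →ₗ[R] N) {n : ℕ} (c : Fin n → R)
    (a : Fin n → M₁) (m : Fin n → M₂) (h : ∀ l, g (a l) = f (m l)) :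
    g (∑ l, c l • a l) = f (∑ l, c l • m l) := by
  simp only [map_sum, map_smul, h]

set_option maxHeartbeats 800000 in
/-- A generating family of vector bundles resolves every module of finite type. -/
theorem exists_resolution (D : CovRes.Data 𝒳) (hgen : StMod.IsGenFam E)
    (hE : ∀ i, (E i).obj.IsLocFree ∧ (E i).obj.IsFinType) (hF : F.obj.IsFinType) :
    ∃ (E₀ : StMod.QCoh 𝒳) (q : E₀ ⟶ F), E₀.obj.IsLocFree ∧ E₀.obj.IsFinType ∧ StMod.Mod.IsSurj q.hom := by
  classical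
  have hξ : Nonempty (D.ξ ⟶ D.chart.x) := ⟨𝟙 _⟩
  have hid : Flat (bmap 𝒳 (𝟙 D.ξ)) := by rw [StMod.bmap_id]; infer_instance
  -- every section at the chart is in the image
  obtain ⟨C₀, φ, hφb, hφn⟩ := GenFam.exists_ext (cokFlat E F) D.hX D.chart
  let inv : ∀ (o : 𝒳.obj) [IsAffine (sch 𝒳 o)] (h : Nonempty (o ⟶ D.chart.x)) (a : o ⟶ D.chart.x),
      Flat (bmap 𝒳 a) → (Γ(C₀.obj.obj o, ⊤) ≃ₗ[Γ(sch 𝒳 o, ⊤)] (cokFlat E F).obj o) :=
    fun o _ h a ha => LinearEquiv.ofBijective (φ o h) (hφb o h a ha)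
  let eξ := inv D.ξ hξ (𝟙 _) hid
  let ew := inv D.chart.w ⟨D.chart.p⟩ D.chart.p D.chart.flat
  obtain ⟨u, hu⟩ : ∃ u : F.obj ⟶ C₀.obj, ∀ t, φ D.ξ hξ ((u.app D.ξ).app ⊤ t) = Submodule.Quotient.mk t := by
    haveI : (F.obj.obj D.ξ).IsQuasicoherent := F.property.2 _
    haveI : SheafOfModules.IsFiniteType (R := (sch 𝒳 D.ξ).ringCatSheaf) (F.obj.obj D.ξ) := hF D.ξ
    haveI : Module.Finite Γ(sch 𝒳 D.ξ, ⊤) Γ(F.obj.obj D.ξ, ⊤) :=
      CohBasics.Affine.finite_sections (isAffineOpen_top _)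
    obtain ⟨n, m, hm⟩ := Module.Finite.exists_fin (R := Γ(sch 𝒳 D.ξ, ⊤)) (M := Γ(F.obj.obj D.ξ, ⊤))
    choose r hr using fun k => GenFam.exists_gen (E := F) D.chart.q hm (F.obj.mapTop D.chart.p (m k))
    obtain ⟨u, hu⟩ := D.chart.toChart.exists_hom D.hX F C₀ m hm (fun k => eξ.symm (Submodule.Quotient.mk (m k)))
      (fun c hc => eξ.injective ((map_lincomb eξ.toLinearMap (imgSub E F D.ξ).mkQ c
        (fun l => eξ.symm (Submodule.Quotient.mk (m l))) m fun l => eξ.apply_symm_apply _).trans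
          ((congrArg (imgSub E F D.ξ).mkQ hc).trans ((map_zero _).trans (map_zero eξ).symm))))
      r (fun k => (hr k).symm) (fun k => by
        have hp : ∀ (a : D.chart.w ⟶ D.chart.x) (l : Fin n),
            ew (C₀.obj.mapTop a (eξ.symm (Submodule.Quotient.mk (m l)))) =
              (Submodule.Quotient.mk (F.obj.mapTop a (m l)) : (cokFlat E F).obj D.chart.w) := fun a l =>
          (hφn a _ hξ _).trans (congrArg ((cokFlat E F).res a) (eξ.apply_symm_apply _))
        apply ew.injective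
        refine (hp D.chart.p k).trans (Eq.trans ?_ (map_lincomb ew.toLinearMap (imgSub E F D.chart.w).mkQ (r k)
          (fun l => C₀.obj.mapTop D.chart.q (eξ.symm (Submodule.Quotient.mk (m l))))
          (fun l => F.obj.mapTop D.chart.q (m l)) fun l => hp D.chart.q l).symm)
        exact congrArg (imgSub E F D.chart.w).mkQ (hr k).symm)
    refine ⟨u, fun t => ?_⟩
    have ht : t ∈ Submodule.span Γ(sch 𝒳 D.ξ, ⊤) (Set.range m) := hm ▸ Submodule.mem_top
    induction ht using Submodule.span_induction with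
    | mem z hz =>
      obtain ⟨l, rfl⟩ := hz
      exact (congrArg (φ D.ξ hξ) (hu l)).trans (eξ.apply_symm_apply _)
    | zero => exact (congrArg (φ D.ξ hξ) (map_zero _)).trans (map_zero _)
    | add a b _ _ ha hb =>
      exact (congrArg (φ D.ξ hξ) (map_add _ a b)).trans ((map_add (φ D.ξ hξ) _ _).trans (congrArg₂ (· + ·) ha hb))
    | smul a b _ hb =>
      exact (congrArg (φ D.ξ hξ) (Scheme.Modules.Hom.app_smul (u.app D.ξ) a b)).trans
        ((map_smul (φ D.ξ hξ) a _).trans (congrArg (a • ·) hb))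
  have hu0 : (ObjectProperty.homMk u : F ⟶ C₀) = 0 := (StMod.isGenFam_iff E).1 hgen _ fun i ψ =>
    CovRes.eq_zero_of_chart D _ fun s => by
      show (u.app D.ξ).app ⊤ ((ψ.app D.ξ).app ⊤ s) = 0
      apply eξ.injective
      rw [map_zero]
      refine (hu _).trans ((Submodule.Quotient.mk_eq_zero _).2 ?_)
      exact Submodule.mem_iSup_of_mem (⟨i, ψ⟩ : Σ i, (E i).obj ⟶ F.obj) ⟨s, rfl⟩
  have hall : imgSub E F D.ξ = ⊤ := by
    refine eq_top_iff.2 fun t _ => (Submodule.Quotient.mk_eq_zero _).1 ((hu t).symm.trans ?_)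
    rw [show u = 0 from congrArg InducedCategory.Hom.hom hu0]
    exact map_zero _
  -- finitely many members suffice
  haveI : (F.obj.obj D.ξ).IsQuasicoherent := F.property.2 _
  haveI : SheafOfModules.IsFiniteType (R := (sch 𝒳 D.ξ).ringCatSheaf) (F.obj.obj D.ξ) := hF D.ξ
  haveI : Module.Finite Γ(sch 𝒳 D.ξ, ⊤) Γ(F.obj.obj D.ξ, ⊤) :=
    CohBasics.Affine.finite_sections (isAffineOpen_top _)
  obtain ⟨n, m, hm⟩ := Module.Finite.exists_fin (R := Γ(sch 𝒳 D.ξ, ⊤)) (M := Γ(F.obj.obj D.ξ, ⊤))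
  have hms : ∀ k, ∃ s : Finset (Σ i, (E i).obj ⟶ F.obj),
      m k ∈ ⨆ p ∈ s, LinearMap.range (appL p.2 D.ξ) := fun k => by
    have h : m k ∈ imgSub E F D.ξ := hall ▸ Submodule.mem_top
    exact Submodule.exists_finset_of_mem_iSup _ h
  choose s hs using hms
  let T := Finset.univ.biUnion s
  let e := T.equivFin
  let P : Fin T.card → Σ i, (E i).obj ⟶ F.obj := fun k => (e.symm k).1
  let M : Fin T.card → StMod.QCoh 𝒳 := fun k => E (P k).1
  obtain ⟨E₀, χ, hχb, hχn⟩ := GenFam.exists_ext (piFlat M) D.hX D.chart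
  let θ : ∀ (o : 𝒳.obj) [IsAffine (sch 𝒳 o)], (piFlat M).obj o →ₗ[Γ(sch 𝒳 o, ⊤)] Γ(F.obj.obj o, ⊤) :=
    fun o _ => ∑ k, (appL (P k).2 o).comp (LinearMap.proj k)
  obtain ⟨q, hq⟩ := GenFam.exists_hom_of_local D.hX E₀ F (fun o => Nonempty (o ⟶ D.chart.x))
    (fun e h => ⟨e ≫ h.some⟩) (fun o ho => ⟨1, D.cover o, fun _ => ⟨D.g o⟩⟩)
    (fun o ho h => (θ o) ∘ₗ (χ o h))
    (fun {o' o} h' h p' ph e t => by
      show F.obj.mapTop e (θ o (χ o ph t)) = θ o' (χ o' p' (E₀.obj.mapTop e t))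
      rw [hχn e p' ph t]
      simp only [θ, LinearMap.coe_sum, Finset.sum_apply, LinearMap.comp_apply, LinearMap.proj_apply]
      refine (map_sum (mapHom F.obj e) _ _).trans (Finset.sum_congr rfl fun k _ => ?_)
      exact StMod.Mod.mapTop_app (P k).2 e _)
  let aξ : Γ(E₀.obj.obj D.ξ, ⊤) ≃ₗ[Γ(sch 𝒳 D.ξ, ⊤)] (piFlat M).obj D.ξ :=
    LinearEquiv.ofBijective (χ D.ξ hξ) (hχb D.ξ hξ (𝟙 _) hid)
  haveI hMf : ∀ k, Module.Finite Γ(sch 𝒳 D.ξ, ⊤) Γ((M k).obj.obj D.ξ, ⊤) := fun k =>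
    haveI := (E (P k).1).property.2 D.ξ
    (Modules.AffineSections.finite_projective_sections
      (GerbeDesc.isFinLocFree_of_isLocallyFree (h := (hE (P k).1).1 _) ((hE (P k).1).2 _)) (isAffineOpen_top _)).1
  haveI hMp : ∀ k, Module.Projective Γ(sch 𝒳 D.ξ, ⊤) Γ((M k).obj.obj D.ξ, ⊤) := fun k =>
    haveI := (E (P k).1).property.2 D.ξ
    (Modules.AffineSections.finite_projective_sections
      (GerbeDesc.isFinLocFree_of_isLocallyFree (h := (hE (P k).1).1 _) ((hE (P k).1).2 _)) (isAffineOpen_top _)).2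
  haveI : Module.Finite Γ(sch 𝒳 D.ξ, ⊤) ((piFlat M).obj D.ξ) :=
    show Module.Finite _ (∀ k, Γ((M k).obj.obj D.ξ, ⊤)) from inferInstance
  haveI : Module.Projective Γ(sch 𝒳 D.ξ, ⊤) ((piFlat M).obj D.ξ) :=
    show Module.Projective _ (∀ k, Γ((M k).obj.obj D.ξ, ⊤)) from
      Module.Projective.of_equiv DFinsupp.linearEquivFunOnFintype
  haveI : Module.Finite Γ(sch 𝒳 D.ξ, ⊤) Γ(E₀.obj.obj D.ξ, ⊤) := Module.Finite.equiv aξ.symm
  haveI : Module.Projective Γ(sch 𝒳 D.ξ, ⊤) Γ(E₀.obj.obj D.ξ, ⊤) := Module.Projective.of_equiv aξ.symm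
  have hlf := CovRes.isFinLocFree_of_affine D.hX E₀ fun o _ => by
    obtain ⟨h1, h2⟩ := CovRes.finite_of_isBC (isBC_mapHom E₀ (D.g o))
    exact CovRes.finite_projective_descent (isBC_mapHom E₀ (D.ε o)) (CovRes.faithfullyFlat_ε D o)
  refine ⟨E₀, ObjectProperty.homMk q, fun x => GerbeDesc.isLocallyFree_of_isFinLocFree (hlf x), fun x => ?_,
    CovRes.isSurj_of_chart D _ fun t => ?_⟩
  · have := TensorMod.FPConv.isFP_of_isFinLocFree (hlf x)
    haveI : SheafOfModules.IsFinitePresentation (R := (sch 𝒳 x).ringCatSheaf) (E₀.obj.obj x) := this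
    exact inferInstanceAs (SheafOfModules.IsFiniteType (R := (sch 𝒳 x).ringCatSheaf) (E₀.obj.obj x))
  · have hr : t ∈ LinearMap.range (θ D.ξ) := by
      have ht : t ∈ Submodule.span Γ(sch 𝒳 D.ξ, ⊤) (Set.range m) := hm ▸ Submodule.mem_top
      refine (Submodule.span_le.2 ?_) ht
      rintro _ ⟨k, rfl⟩
      have hle : (⨆ p ∈ s k, LinearMap.range (appL p.2 D.ξ)) ≤ LinearMap.range (θ D.ξ) :=
        iSup₂_le fun p hp => ?_
      · exact hle (hs k)
      rintro _ ⟨z, rfl⟩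
      have hpT : p ∈ T := Finset.mem_biUnion.2 ⟨k, Finset.mem_univ _, hp⟩
      have he : P (e ⟨p, hpT⟩) = p := congrArg Subtype.val (e.symm_apply_apply ⟨p, hpT⟩)
      have key : ∀ (p' : Σ i, (E i).obj ⟶ F.obj) (_ : p = p'),
          appL p.2 D.ξ z ∈ LinearMap.range (appL p'.2 D.ξ) := by rintro _ rfl; exact ⟨z, rfl⟩
      obtain ⟨z', hz'⟩ := key _ he.symm
      refine ⟨Pi.single (M := fun k => Γ((M k).obj.obj D.ξ, ⊤)) (e ⟨p, hpT⟩) z', ?_⟩
      simp only [θ, LinearMap.coe_sum, Finset.sum_apply, LinearMap.comp_apply, LinearMap.proj_apply]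
      show ∑ x, appL (P x).2 D.ξ (Pi.single (M := fun k => Γ((M k).obj.obj D.ξ, ⊤)) (e ⟨p, hpT⟩) z' x) = _
      rw [Finset.sum_eq_single (e ⟨p, hpT⟩) (fun b _ hb => (congrArg (appL (P b).2 D.ξ) (Pi.single_eq_of_ne (M := fun k => Γ((M k).obj.obj D.ξ, ⊤)) hb z')).trans (map_zero _))
        (fun h => (h (Finset.mem_univ _)).elim)]
      exact (congrArg (appL (P (e ⟨p, hpT⟩)).2 D.ξ) (Pi.single_eq_same (M := fun k => Γ((M k).obj.obj D.ξ, ⊤)) _ z')).trans hz'
    obtain ⟨z, hz⟩ := hr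
    obtain ⟨w, rfl⟩ := aξ.surjective z
    exact ⟨w, (hq D.ξ inferInstance hξ w).trans hz⟩

end Groth.Agent.H14.QARes
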