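import Groth.Agent.H14.QARes.Node

/-!
The fibre of the quotient stack over the trivial torsor is the scheme.
-/

set_option autoImplicit false
set_option backward.isDefEq.respectTransparency false
set_option backward.isDefEq.respectTransparency.types false
set_option linter.style.haveILetI false

universe u

open CategoryTheory CategoryTheory.Limits MonoidalCategory CartesianMonoidalCategory MonObj AlgebraicGeometry
open StMod (sch bmap fibCat fibFst)
open FibCat (overCat)
open Groth.Agent.Lib
open Groth.Agent.Lib.QuotSt (point)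
open Groth.Agent.H14.GenFam

namespace Groth.Agent.H14.QARes

variable {S : Scheme.{u}} {G U : Over S} [GrpObj G] (aU : AlgGrp.Action G U)

/-- The trivial torsor over the base. -/
noncomputable abbrev ξ₀ : (AlgSt.BG Scheme.fppfPrecoverage G).obj :=
  (Lib.QuotSt.atlas Scheme.fppfPrecoverage (AlgSt.trivAction G)).obj (Over.mk (𝟙 (𝟙_ (Over S))))

/-- The unit point. -/
noncomputable def s₁ (G : Over S) [GrpObj G] (V : Over S) : V ⟶ (ξ₀ (G := G)).P :=
  lift (1 : V ⟶ G) (toUnit V)

theorem smul_s₁ {V : Over S} (c g : V ⟶ G) :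
    lift c (lift g (toUnit V)) ≫ (ξ₀ (G := G)).act.act = lift (c * g) (toUnit V) :=
  QuotSt.lift_leftMul c g _

theorem eq_lift {V : Over S} (s : V ⟶ (ξ₀ (G := G)).P) :
    ∃ g : V ⟶ G, s = lift g (toUnit V) :=
  ⟨s ≫ fst G (𝟙_ (Over S)), CartesianMonoidalCategory.hom_ext _ _ (lift_fst _ _).symm (toUnit_unique _ _)⟩

theorem pHom {a a' : (overCat U).obj} (f : a ⟶ a') :
    ∃ k : node (aU := aU) a.hom (s₁ G a.left) ⟶ node a'.hom (s₁ G a'.left),
      point (x := a.hom) k.left = lift 1 f.left ∧ k.left.base = f.left :=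
  exists_node_hom a.hom a'.hom (s₁ G a.left) (s₁ G a'.left) f.left 1
    (by rw [Lib.QuotSt.Act.one_smul]; exact Over.w f)
    (by
      rw [Lib.QuotSt.Act.one_smul, s₁, comp_lift, MonObj.comp_one]
      exact congrArg (lift 1) (toUnit_unique _ _))

theorem node_ext {V' V : Over S} {x' : V' ⟶ U} {x : V ⟶ U} {y : (AlgSt.BG Scheme.fppfPrecoverage G).obj}
    {s' : V' ⟶ y.P} {s : V ⟶ y.P} {a b : node (aU := aU) x' s' ⟶ node x s}
    (h : point (x := x') a.left = point (x := x') b.left) : a = b :=
  CostructuredArrow.hom_ext _ _ (QuotSt.hom_ext_of_point (x := x') h)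

/-- The comparison. -/
noncomputable def fromU : overCat U ⥤ᵇ fibCat (forget aU) (ξ₀ (G := G)) where
  toFunctor :=
    { obj := fun a => node a.hom (s₁ G a.left)
      map := fun {_ _} f => (pHom aU f).choose
      map_id := fun a => node_ext aU ((pHom aU (𝟙 a)).choose_spec.1.trans (by
        show lift (1 : a.left ⟶ G) (𝟙 a.left) = lift 1 (𝟙 a.left) ≫ 𝟙 _
        rw [Category.comp_id]))
      map_comp := fun {a b c} f g => node_ext aU ((pHom aU (f ≫ g)).choose_spec.1.trans (by
        refine Eq.trans ?_ (QuotGood.comp_point aU (pHom aU f).choose.left (pHom aU g).choose.left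
          (pHom aU f).choose_spec.1).symm
        rw [(pHom aU g).choose_spec.1, comp_lift, MonObj.comp_one]
        show _ = lift (1 : a.left ⟶ G) (lift (1 : a.left ⟶ G) (f.left ≫ g.left)) ≫ (AlgSt.leftMul G c.left).act
        rw [QuotSt.lift_leftMul, _root_.mul_one]
        rfl)) }
  w := CategoryTheory.Functor.ext (fun _ => rfl) fun a b f => by
    simp only [eqToHom_refl, Category.id_comp, Category.comp_id]
    exact (pHom aU f).choose_spec.2

theorem fromU_map {a a' : (overCat U).obj} (f : a ⟶ a') :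
    point (x := a.hom) ((fromU aU).map f).left = lift 1 f.left :=
  (pHom aU f).choose_spec.1

theorem full_fromU : (fromU aU).toFunctor.Full := ⟨fun {a a'} k => by
  obtain ⟨c, t, hp, -, hx, hs⟩ := node_hom_eqs k
  rw [s₁, s₁, comp_lift, MonObj.comp_one, toUnit_unique (t ≫ toUnit a'.left) (toUnit a.left), smul_s₁,
    _root_.mul_one] at hs
  have hc : c = 1 := by
    have := congrArg (· ≫ fst G (𝟙_ (Over S))) hs
    exact (lift_fst _ _).symm.trans (this.trans (lift_fst _ _))
  rw [hc, Lib.QuotSt.Act.one_smul] at hx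
  exact ⟨Over.homMk t hx, node_ext aU ((fromU_map aU _).trans (by rw [hp, hc]; rfl))⟩⟩

theorem faithful_fromU : (fromU aU).toFunctor.Faithful := ⟨fun {a a'} f g h => by
  have e := congrArg (fun k => point (x := a.hom) k.left ≫ snd G a'.left) h
  simp only [fromU_map, lift_snd] at e
  exact Over.OverMorphism.ext e⟩

theorem obj_fromU (o : (fibCat (forget aU) (ξ₀ (G := G))).obj) :
    ∃ (a : (overCat U).obj) (e : (fromU aU).obj a ≅ o),
      (fibCat (forget aU) (ξ₀ (G := G))).p.IsHomLift (𝟙 ((fibCat (forget aU) (ξ₀ (G := G))).p.obj o)) e.hom := by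
  let σ : o.left.base ⟶ o.left.P := o.hom.cart.lift (lift 1 o.hom.base) (𝟙 _) (by
    show lift 1 o.hom.base ≫ snd G _ = 𝟙 _ ≫ o.hom.base
    exact (lift_snd _ _).trans (Category.id_comp _).symm)
  have hσ : σ ≫ o.left.π = 𝟙 _ := o.hom.cart.lift_snd _ _ _
  obtain ⟨s, k, hk⟩ := exists_node_to o σ
  rw [hσ] at hk
  obtain ⟨g, rfl⟩ := eq_lift s
  let a : (overCat U).obj := Over.mk (lift g⁻¹ (σ ≫ o.left.φ) ≫ aU.act)
  obtain ⟨m, -, hm⟩ := exists_node_hom (aU := aU) (lift g⁻¹ (σ ≫ o.left.φ) ≫ aU.act) (σ ≫ o.left.φ)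
    (s₁ G o.left.base) (lift g (toUnit o.left.base)) (𝟙 _) g⁻¹ (by rw [Category.id_comp])
    (by rw [Category.id_comp, smul_s₁, inv_mul_cancel]; rfl)
  let t := m ≫ k
  have ht : t.left.base = 𝟙 o.left.base := by
    show m.left.base ≫ k.left.base = _
    rw [hm, hk]
    exact Category.id_comp _
  haveI : IsIso t.left.base := by rw [ht]; exact IsIso.id o.left.base
  haveI : IsIso t.left := QuotSt.isIso_of_base t.left
  refine ⟨a, CostructuredArrow.isoMk (asIso t.left) (CostructuredArrow.w t), ?_⟩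
  refine IsHomLift.of_fac' _ _ _ rfl rfl ?_
  simp only [eqToHom_refl, Category.id_comp, Category.comp_id]
  exact ht

theorem isEqv_fromU : IsEqv (fromU aU) where
  fibX := Lib.AlgStack.Yoneda.isFibGrpd_overCat U
  fibY := isFibGrpd_fibCat (Lib.QuotSt.isFibGrpd) (forget aU) _
  full := full_fromU aU
  faithful := faithful_fromU aU
  obj := obj_fromU aU

/-- The structure sheaf generates on the fibre over the trivial torsor. -/
theorem isGenFam_fib [IsAffine S] [U.left.IsQuasiAffine] :
    StMod.IsGenFam (fun _ : PUnit.{u + 1} =>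
      (StMod.comapQ (fibFst (forget aU) (ξ₀ (G := G)))).obj (StMod.OQ (AlgSt.QuotSt Scheme.fppfPrecoverage G aU))) := by
  haveI : IsAffine (𝟙_ (Over S)).left := inferInstanceAs (IsAffine S)
  exact (isEqv_fromU aU).isGenFam_of_source (E' := fun _ : PUnit.{u + 1} => StMod.OQ (overCat U))
    (fun _ => (StMod.comapFunctor (fromU aU)).mapIso (StMod.comapOIso _) ≪≫ StMod.comapOIso (fromU aU))
    (isGenFam_overCat U (toUnit U))

end Groth.Agent.H14.QARes
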