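import Groth.Agent.H14.QARes.FibChart
import Groth.Agent.H14.QARes.PointFib

/-!
Generating families from the classifying stack.
-/

set_option autoImplicit false
set_option backward.isDefEq.respectTransparency false
set_option backward.isDefEq.respectTransparency.types false
set_option linter.style.haveILetI false
universe u
open CategoryTheory CategoryTheory.Limits AlgebraicGeometry Opposite
open StMod (sch bmap fibCat fibFst baseOver)
open Groth.Agent.Lib Groth.Agent.Lib.AlgStack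
open Groth.Agent.H14.ModDesc
open FibCat (overCat)
open Groth.Agent.Lib.AlgStack
open Groth.Agent.H14.GenFam

namespace Groth.Agent.H14.QARes

section

variable {S : Scheme.{u}} {𝒳 𝒴 : AlgSt.Cat S} {f : 𝒳 ⥤ᵇ 𝒴} (hX : FibCat.IsFibGrpd 𝒳.p) (hY : FibCat.IsFibGrpd 𝒴.p)

include hX hY in
/-- Inverse images of a generating family are generating when the structure sheaf is so over the chart. -/
theorem isGenFam_comap_at_chart (C : Chart2 𝒴) (hchart : ∀ y, IsAffine (sch 𝒴 y) → Nonempty (Chart (fibCat f y)))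
    (hO : StMod.IsGenFam (fun _ : PUnit.{u + 1} => (StMod.comapQ (fibFst f C.x)).obj (StMod.OQ 𝒳))) {κ : Type*} (F : κ → StMod.QCoh 𝒴)
    (hF : StMod.IsGenFam F) : StMod.IsGenFam (fun j => (StMod.comapQ f).obj (F j)) := by
  rw [StMod.isGenFam_iff]
  intro M N u hu
  refine eq_zero_of_pairings C (fun _ : PUnit.{u + 1} => StMod.OQ 𝒳)
    (fun _ => ⟨hX, hY, hchart, fun x _ => fp_OQ x⟩) hO F hF hX hY u fun i j b ξ _ h t s => ?_
  let hs : ∀ ξ, sch 𝒴 (f.obj ξ) = sch 𝒳 ξ := fun ξ => StMod.sch_obj_eq f ξ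
  let c : ∀ ξ, Γ((F j).obj.obj (f.obj ξ), ⊤) → Γ(((StMod.comapQ f).obj (F j)).obj.obj ξ, ⊤) :=
    fun ξ t => castTop (hs ξ) ((F j).obj.obj (f.obj ξ)) t
  have hc : ∀ ξ, Function.Bijective (c ξ) := fun ξ => castTop_bijective (hs ξ) _
  let cinv : ∀ ξ, Γ(((StMod.comapQ f).obj (F j)).obj.obj ξ, ⊤) → Γ((F j).obj.obj (f.obj ξ), ⊤) :=
    fun ξ => (Equiv.ofBijective _ (hc ξ)).symm
  have hcinv : ∀ ξ z, c ξ (cinv ξ z) = z := fun ξ z => (Equiv.ofBijective _ (hc ξ)).apply_symm_apply z
  have hcinv' : ∀ ξ z, cinv ξ (c ξ z) = z := fun ξ z => (Equiv.ofBijective _ (hc ξ)).symm_apply_apply z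
  have hadd : ∀ ξ z z', cinv ξ (z + z') = cinv ξ z + cinv ξ z' := fun ξ z z' => (hc ξ).injective (by
    rw [hcinv]
    exact ((congrArg₂ (· + ·) (hcinv ξ z) (hcinv ξ z')).symm.trans (map_add (castTop (hs ξ) _) _ _).symm))
  have hsmul : ∀ ξ (r : Γ(sch 𝒳 ξ, ⊤)) z,
      cinv ξ (r • z) = (eqToHom (hs ξ)).appTop.hom r • cinv ξ z := fun ξ r z => (hc ξ).injective (by
    rw [hcinv]
    refine Eq.trans ?_ (castTop_smul (hs ξ) _ _ _).symm
    refine Eq.trans (congrArg (r • ·) (hcinv ξ z).symm) (congrArg (· • _) ?_)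
    refine Eq.trans ?_ (RingHom.comp_apply (eqToHom (hs ξ).symm).appTop.hom (eqToHom (hs ξ)).appTop.hom r)
    rw [← appTop_comp_hom, eqToHom_trans, eqToHom_refl, Scheme.Hom.id_appTop]
    rfl)
  obtain ⟨ψ, hψ⟩ := exists_hom_of_chart hX hY C ((StMod.comapQ f).obj (F j)) M (fun ξ hξ p =>
    { toFun := fun z => b.B ξ p (cinv ξ z) (oneO 𝒳 ξ)
      map_add' := fun z z' => by rw [hadd]; exact b.map_add ξ p _ _ _
      map_smul' := fun r z => by
        rw [RingHom.id_apply, hsmul, b.map_smul]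
        refine congrArg (· • b.B ξ p (cinv ξ z) (oneO 𝒳 ξ)) ?_
        refine (RingHom.comp_apply (baseOver f ξ (𝟙 (f.obj ξ))).left.appTop.hom (eqToHom (hs ξ)).appTop.hom r).symm.trans ?_
        rw [← appTop_comp_hom]
        have e : (baseOver f ξ (𝟙 (f.obj ξ))).left ≫ eqToHom (hs ξ) = 𝟙 _ := by
          rw [baseOver, 𝒴.p.map_id, Category.comp_id, Over.eqToHom_left, eqToHom_trans, eqToHom_refl]
        rw [e, Scheme.Hom.id_appTop]
        rfl }) fun {o' o} h' h p' p e z => by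
      show M.obj.mapTop e (b.B o p (cinv o z) (oneO 𝒳 o)) = b.B o' p' (cinv o' _) (oneO 𝒳 o')
      rw [b.natural e p' p, oneO_mapTop]
      refine congrArg (fun w => b.B o' p' w (oneO 𝒳 o')) ?_
      apply (hc o').injective
      rw [hcinv]
      refine (mapTop_comap f (F j).obj e (cinv o z)).symm.trans (congrArg _ (hcinv o z))
  have h1 : (u.hom.app ξ).app ⊤ (b.B ξ h t (oneO 𝒳 ξ)) = 0 := by
    have h2 := congrArg (fun q : ((StMod.comapQ f).obj (F j)).obj ⟶ N.obj => (q.app ξ).app ⊤ (c ξ t)) (hu j ψ)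
    have h3 : (ψ.app ξ).app ⊤ (c ξ t) = b.B ξ h t (oneO 𝒳 ξ) :=
      (hψ ξ ‹_› h (c ξ t)).trans (congrArg (fun w => b.B ξ h w (oneO 𝒳 ξ)) (hcinv' ξ t))
    exact (congrArg _ h3.symm).trans (h2.trans rfl)
  rw [← smul_oneO s, map_smul]
  exact (Scheme.Modules.Hom.app_smul (u.hom.app ξ) _ _).trans ((congrArg (_ • ·) h1).trans (smul_zero _))

end

variable {S : Scheme.{u}} {G U : Over S} [GrpObj G] (aU : AlgGrp.Action G U) [IsAffineHom G.hom] [Flat G.hom]

/-- The atlas of a quotient stack as a chart. -/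
theorem exists_data {U0 : Over S} [IsAffine U0.left] (j : U0 ⟶ U) [IsAffineHom j.left] [Flat j.left]
    [Surjective j.left] : ∃ D : CovRes.Data (AlgSt.QuotSt Scheme.fppfPrecoverage G aU),
      D.U = U0 ∧ D.ξ = (BasedFunctor.comp (AlgSt.overMap j) (Lib.QuotSt.atlas Scheme.fppfPrecoverage aU)).obj
        (Over.mk (𝟙 U0)) := by
  have hK : (Scheme.fppfPrecoverage : Precoverage Scheme.{u}) ≤ Scheme.fpqcPrecoverage :=
    Scheme.fppfPrecoverage_le_fpqcPrecoverage
  refine ⟨{ hX := Lib.QuotSt.isFibGrpd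
            U := U0
            affU := inferInstance
            u := BasedFunctor.comp (AlgSt.overMap j) (Lib.QuotSt.atlas Scheme.fppfPrecoverage aU)
            haff := Sep.Main.Good.repComp (𝒳 := overCat U0) (𝒴 := overCat U) Sep.Main.good_affine
              (Yoneda.isFibGrpd_overCat _) (Yoneda.isFibGrpd_overCat _)
              (Chart.Basic.rep_overMap j (fun _ _ _ _ a b c d p q r s sq ha => Sep.Main.good_affine.bc a b c d p q r s sq ha)
                (AlgSpMor.AffineDescent.isAffineMor_iff.2 ((AlgSp.repWith_yon_map_iff _ _).2 inferInstance)))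
              (Lib.QuotSt.repByAlgSpWith_atlas fun y => Lib.QuotSt.isAffineMor_yon_map _
                (Lib.QuotSt.property_proj (P := @IsAffineHom.{u}) y hK ‹IsAffineHom G.hom›))
            hfl := IsAlgFp.comp_locP SourceDescent.Scheme.flat (Yoneda.isFibGrpd_overCat _) (Yoneda.isFibGrpd_overCat _)
              (Chart.Basic.rep_overMap_locP j SourceDescent.Scheme.flat inferInstance)
              (Lib.QuotSt.repByAlgSpWith_atlas fun y => Lib.AlgSpMor.LocP.locP_of_repWith SourceDescent.Scheme.flat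
                ((AlgSp.repWith_yon_map_iff _ _).2 (Lib.QuotSt.property_proj (P := @Flat.{u}) y hK ‹Flat G.hom›)))
            hsurj := IsAlgFp.comp_surjective (Yoneda.isFibGrpd_overCat _) (Yoneda.isFibGrpd_overCat _)
              (Chart.Basic.rep_overMap_surjective j)
              (Lib.QuotSt.repByAlgSpWith_atlas fun y => Lib.QuotSt.isSurjectiveMor_yon_map _
                (Lib.QuotSt.surjective_proj hK y)) }, rfl, rfl⟩

end Groth.Agent.H14.QARes
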