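import Groth.Agent.H14.QARes.Gen
import Groth.Agent.H14.QARes.FromGen

/-!
The resolution property of quotients of quasi-affine schemes over a field.
-/

set_option autoImplicit false
set_option backward.isDefEq.respectTransparency false
set_option backward.isDefEq.respectTransparency.types false
set_option linter.style.haveILetI false

universe u

open CategoryTheory CategoryTheory.Limits MonoidalCategory CartesianMonoidalCategory AlgebraicGeometry
open StMod (sch bmap)
open FibCat (overCat)
open Groth.Agent.Lib Groth.Agent.Lib.AlgStack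
open Groth.Agent.H14.GenFam

namespace Groth.Agent.H14.QARes

theorem isFinLocFree_castTgt {A B : Scheme.{u}} {h : A = B} {M : A.Modules} (hM : FlatMod.IsFinLocFree M) :
    FlatMod.IsFinLocFree (StMod.castMod h M) := by
  subst h
  exact hM

theorem heredFlat_of_isField (A : Type u) [CommRing A] (h : IsField A) : CovRes.HeredFlat A := by
  intro N _ _ _ T
  letI := h.toField
  exact Module.Flat.of_free

theorem exists_locFree_surj (k : Type u) [Field k] {G U : Over (Spec (CommRingCat.of k))} [GrpObj G]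
    [IsAffineHom G.hom] [Flat G.hom] [U.left.IsQuasiAffine] (aU : AlgGrp.Action G U)
    (F : StMod.QCoh (AlgSt.QuotSt Scheme.fppfPrecoverage G aU)) (hF : F.obj.IsFinType) :
    ∃ (E : StMod.QCoh (AlgSt.QuotSt Scheme.fppfPrecoverage G aU)) (q : E ⟶ F),
      E.obj.IsLocFree ∧ E.obj.IsFinType ∧ StMod.Mod.IsSurj q.hom := by
  let S := Spec (CommRingCat.of k)
  have hK : (Scheme.fppfPrecoverage : Precoverage Scheme.{u}) ≤ Scheme.fpqcPrecoverage :=
    Scheme.fppfPrecoverage_le_fpqcPrecoverage
  haveI : IsAffine (𝟙_ (Over S)).left := inferInstanceAs (IsAffine S)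
  -- the classifying stack
  let DB : CovRes.Data (AlgSt.BG Scheme.fppfPrecoverage G) :=
    { hX := Lib.QuotSt.isFibGrpd
      U := 𝟙_ (Over S)
      affU := inferInstanceAs (IsAffine S)
      u := Lib.QuotSt.atlas Scheme.fppfPrecoverage (AlgSt.trivAction G)
      haff := Lib.QuotSt.repByAlgSpWith_atlas fun y => Lib.QuotSt.isAffineMor_yon_map _
        (Lib.QuotSt.property_proj (P := @IsAffineHom.{u}) y hK ‹IsAffineHom G.hom›)
      hfl := Lib.QuotSt.repByAlgSpWith_atlas fun y => Lib.AlgSpMor.LocP.locP_of_repWith SourceDescent.Scheme.flat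
        ((AlgSp.repWith_yon_map_iff _ _).2 (Lib.QuotSt.property_proj (P := @Flat.{u}) y hK ‹Flat G.hom›))
      hsurj := Lib.QuotSt.repByAlgSpWith_atlas fun y => Lib.QuotSt.isSurjectiveMor_yon_map _
        (Lib.QuotSt.surjective_proj hK y) }
  let eR : Γ(sch (AlgSt.BG Scheme.fppfPrecoverage G) DB.ξ, ⊤) ≃+* k :=
    (Scheme.ΓSpecIso (CommRingCat.of k)).commRingCatIsoToRingEquiv
  have hfld : IsField Γ(sch (AlgSt.BG Scheme.fppfPrecoverage G) DB.ξ, ⊤) :=
    MulEquiv.isField (Field.toIsField k) eR.toMulEquiv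
  haveI : IsNoetherianRing Γ(sch (AlgSt.BG Scheme.fppfPrecoverage G) DB.ξ, ⊤) :=
    isNoetherianRing_of_ringEquiv k eR.symm
  obtain ⟨-, hsep⟩ := CovRes.resolution DB (heredFlat_of_isField _ hfld)
  let κ := {E : StMod.QCoh (AlgSt.BG Scheme.fppfPrecoverage G) // E.obj.IsLocFree ∧ E.obj.IsFinType}
  have hB : StMod.IsGenFam (fun i : κ => i.1) := by
    rw [StMod.isGenFam_iff]
    intro M N v hv
    exact hsep M N v 0 fun E h1 h2 φ =>
      ObjectProperty.hom_ext _ ((hv ⟨E, h1, h2⟩ φ.hom).trans comp_zero.symm)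
  -- an affine cover of the scheme
  let 𝒰 := U.left.affineCover.finiteSubcover
  haveI : ∀ i, IsAffine (𝒰.X i) := fun i => inferInstanceAs (IsAffine (U.left.affineCover.X _))
  let j₀ : (∐ fun i => 𝒰.X i) ⟶ U.left := Sigma.desc fun i => 𝒰.f i
  let U0 : Over S := Over.mk (j₀ ≫ U.hom)
  let j : U0 ⟶ U := Over.homMk j₀
  haveI : IsAffine U0.left := inferInstanceAs (IsAffine (∐ fun i => 𝒰.X i))
  haveI : Flat j.left :=
    show Flat j₀ from IsZariskiLocalAtSource.sigmaDesc (P := @Flat) fun i => inferInstance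
  haveI : Surjective j.left := ⟨fun x => by
    obtain ⟨i, z, hz⟩ := 𝒰.exists_eq x
    exact ⟨Sigma.ι (fun i => 𝒰.X i) i z, by
      show j₀ _ = x
      rw [← Scheme.Hom.comp_apply, Sigma.ι_desc]
      exact hz⟩⟩
  haveI : IsAffineHom j.left := isAffineHom_of_separated j.left
  obtain ⟨D, -, -⟩ := exists_data aU j
  have hgen := isGenFam_comap_at_chart (f := forget aU) Lib.QuotSt.isFibGrpd Lib.QuotSt.isFibGrpd DB.chart
    (fun y hy => exists_fibre_chart j y hy) (isGenFam_fib aU) (fun i : κ => i.1) hB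
  refine exists_resolution D hgen (fun i => ⟨fun x => ?_, fun x => ?_⟩) hF
  · exact GerbeDesc.isLocallyFree_of_isFinLocFree (isFinLocFree_castTgt
      (GerbeDesc.isFinLocFree_of_isLocallyFree (h := i.2.1 _) (i.2.2 ((forget aU).obj x))))
  · have := TensorMod.FPConv.isFP_of_isFinLocFree (isFinLocFree_castTgt (h := StMod.sch_obj_eq (forget aU) x)
      (GerbeDesc.isFinLocFree_of_isLocallyFree (h := i.2.1 _) (i.2.2 ((forget aU).obj x))))
    haveI : SheafOfModules.IsFinitePresentation (R := (sch _ x).ringCatSheaf)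
      (((StMod.comapQ (forget aU)).obj i.1).obj.obj x) := this
    exact inferInstanceAs (SheafOfModules.IsFiniteType (R := (sch _ x).ringCatSheaf)
      (((StMod.comapQ (forget aU)).obj i.1).obj.obj x))

end Groth.Agent.H14.QARes
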