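import Groth.Agent.H14.BGPush.Main
import Groth.Agent.H14.BGPush.Point
import Groth.Agent.H14.QuotGood.Chart
import Groth.Agent.H14.GenFam.QAff
import Groth.Agent.H14.GenFam.PushApp

/-!
The functor from a quotient stack to the classifying stack.
-/

set_option autoImplicit false
set_option backward.isDefEq.respectTransparency false
set_option backward.isDefEq.respectTransparency.types false
set_option linter.style.haveILetI false

universe u

open CategoryTheory CategoryTheory.Limits MonoidalCategory CartesianMonoidalCategory MonObj AlgebraicGeometry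
open StMod (sch bmap fibCat)
open AlgSt (QuotObj)
open Groth.Agent.Lib
open Groth.Agent.Lib.QuotSt (trivObj point ofPoint)
open Groth.Agent.H14.IsoNat.BGNeutral (triv)
open Groth.Agent.H14.GenFam

namespace Groth.Agent.H14.QARes

variable {S : Scheme.{u}} {G U : Over S} [GrpObj G] (aU : AlgGrp.Action G U)

/-- The torsor of an object. -/
noncomputable def forget : AlgSt.QuotSt Scheme.fppfPrecoverage G aU ⥤ᵇ AlgSt.BG Scheme.fppfPrecoverage G where
  toFunctor :=
    { obj := fun o => { base := o.base, P := o.P, act := o.act, π := o.π, cart := o.cart, loc := o.loc,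
                        φ := toUnit o.P, eqv := toUnit_unique _ _ }
      map := fun {o o'} m => { base := m.base, top := m.top, eqv := m.eqv, cart := m.cart,
                               wφ := toUnit_unique _ _ }
      map_id := fun o => QuotObj.hom_ext rfl rfl
      map_comp := fun m m' => QuotObj.hom_ext rfl rfl }
  w := rfl

variable {aU}

/-- The trivial object. -/
noncomputable abbrev tob {V : Over S} (x : V ⟶ U) : (AlgSt.QuotSt Scheme.fppfPrecoverage G aU).obj :=
  trivObj Scheme.fppfPrecoverage aU x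

variable {y : (AlgSt.BG Scheme.fppfPrecoverage G).obj}

theorem toY_ext {V : Over S} {x : V ⟶ U} {m m' : (forget aU).obj (tob x) ⟶ y}
    (h : lift (1 : V ⟶ G) (𝟙 V) ≫ m.top = lift (1 : V ⟶ G) (𝟙 V) ≫ m'.top) : m = m' := by
  let a : triv G V ⟶ y := { base := m.base, top := m.top, eqv := m.eqv, cart := m.cart, wφ := toUnit_unique _ _ }
  let a' : triv G V ⟶ y :=
    { base := m'.base, top := m'.top, eqv := m'.eqv, cart := m'.cart, wφ := toUnit_unique _ _ }
  have e : a = a' := BGPush.pt_ext h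
  exact QuotObj.hom_ext (congrArg (fun z : triv G V ⟶ y => z.base) e)
    (congrArg (fun z : triv G V ⟶ y => z.top) e)

/-- The morphism given by a point of the torsor. -/
noncomputable def toY {V : Over S} (x : V ⟶ U) (s : V ⟶ y.P) : (forget aU).obj (tob x) ⟶ y :=
  { base := (BGPush.ofPt s).base
    top := (BGPush.ofPt s).top
    eqv := (BGPush.ofPt s).eqv
    cart := (BGPush.ofPt s).cart
    wφ := toUnit_unique _ _ }

theorem toY_pt {V : Over S} (x : V ⟶ U) (s : V ⟶ y.P) : lift (1 : V ⟶ G) (𝟙 V) ≫ (toY (aU := aU) x s).top = s :=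
  BGPush.pt_ofPt s

theorem exists_toY {V : Over S} {x : V ⟶ U} (m : (forget aU).obj (tob x) ⟶ y) :
    ∃ s, m = toY x s :=
  ⟨_, toY_ext (toY_pt x _).symm⟩

/-- An object over `y` from points of the scheme and of the torsor. -/
noncomputable abbrev node {V : Over S} (x : V ⟶ U) (s : V ⟶ y.P) : (fibCat (forget aU) y).obj :=
  CostructuredArrow.mk (toY x s)

/-- A morphism of trivial objects. -/
theorem exists_tob_hom {V' V : Over S} (x' : V' ⟶ U) (x : V ⟶ U) (t : V' ⟶ V) (c : V' ⟶ G)
    (hx : lift c (t ≫ x) ≫ aU.act = x') :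
    ∃ m : tob (aU := aU) x' ⟶ tob x, point m = lift c t ∧ m.base = t := by
  refine ⟨ofPoint (A := tob x) x' t (lift c t) (lift_snd _ _) ?_, QuotSt.point_ofPoint _ _ _ _ _, rfl⟩
  show lift c t ≫ (G ◁ x) ≫ aU.act = x'
  rw [lift_whiskerLeft_assoc, hx]

theorem tob_hom_eq {V' V : Over S} {x' : V' ⟶ U} {x : V ⟶ U} (m : tob (aU := aU) x' ⟶ tob x) :
    point m = lift (point m ≫ fst G V) m.base := by
  apply CartesianMonoidalCategory.hom_ext
  · exact (lift_fst _ _).symm
  · rw [lift_snd]
    exact QuotSt.point_π m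

theorem forget_map_top {V' V : Over S} {x' : V' ⟶ U} {x : V ⟶ U} (m : tob (aU := aU) x' ⟶ tob x) (s : V ⟶ y.P)
    (c : V' ⟶ G) (t : V' ⟶ V) (hm : point m = lift c t) :
    lift (1 : V' ⟶ G) (𝟙 V') ≫ ((forget aU).map m ≫ toY (aU := aU) x s).top = lift c (t ≫ s) ≫ y.act.act := by
  show lift (1 : V' ⟶ G) (𝟙 V') ≫ m.top ≫ (BGPush.ofPt s).top = _
  rw [← Category.assoc, show lift (1 : V' ⟶ G) (𝟙 V') ≫ m.top = lift c t from hm]
  refine (Lib.QuotSt.lift_comp_top (aX := AlgSt.trivAction G) (x := toUnit V) (BGPush.ofPt s) c t).trans ?_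
  exact congrArg (fun z => lift c (t ≫ z) ≫ y.act.act) (BGPush.pt_ofPt s)

/-- A morphism of nodes. -/
theorem exists_node_hom {V' V : Over S} (x' : V' ⟶ U) (x : V ⟶ U) (s' : V' ⟶ y.P) (s : V ⟶ y.P) (t : V' ⟶ V)
    (c : V' ⟶ G) (hx : lift c (t ≫ x) ≫ aU.act = x') (hs : lift c (t ≫ s) ≫ y.act.act = s') :
    ∃ k : node (aU := aU) x' s' ⟶ node x s, point (x := x') k.left = lift c t ∧ k.left.base = t := by
  obtain ⟨m, hm, hb⟩ := exists_tob_hom x' x t c hx
  refine ⟨CostructuredArrow.homMk m (toY_ext ?_), hm, hb⟩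
  exact (forget_map_top m s c t hm).trans (hs.trans (toY_pt x' s').symm)

theorem node_hom_eqs {V' V : Over S} {x' : V' ⟶ U} {x : V ⟶ U} {s' : V' ⟶ y.P} {s : V ⟶ y.P}
    (k : node (aU := aU) x' s' ⟶ node x s) :
    ∃ (c : V' ⟶ G) (t : V' ⟶ V), point (x := x') k.left = lift c t ∧ k.left.base = t ∧
      lift c (t ≫ x) ≫ aU.act = x' ∧ lift c (t ≫ s) ≫ y.act.act = s' := by
  let m : tob (aU := aU) x' ⟶ tob x := k.left
  refine ⟨point m ≫ fst G V, m.base, tob_hom_eq m, rfl, ?_, ?_⟩
  · have h := QuotSt.point_φ m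
    rw [tob_hom_eq m] at h
    refine Eq.trans ?_ h
    show _ = lift _ _ ≫ (G ◁ x) ≫ aU.act
    rw [lift_whiskerLeft_assoc]
  · have w : (forget aU).map m ≫ toY x s = toY x' s' := CostructuredArrow.w k
    have h := forget_map_top m s _ _ (tob_hom_eq m)
    rw [w, toY_pt] at h
    exact h.symm

/-- An object over `y` is a node along any point of its torsor. -/
theorem exists_node_to (o : (fibCat (forget aU) y).obj) {V : Over S} (σ : V ⟶ o.left.P) :
    ∃ (s : V ⟶ y.P) (k : node (σ ≫ o.left.φ) s ⟶ o), k.left.base = σ ≫ o.left.π := by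
  let m : tob (aU := aU) (σ ≫ o.left.φ) ⟶ o.left := ofPoint (σ ≫ o.left.φ) (σ ≫ o.left.π) σ rfl rfl
  obtain ⟨s, hs⟩ := exists_toY ((forget aU).map m ≫ o.hom)
  exact ⟨s, CostructuredArrow.homMk m hs, rfl⟩

/-- The section of the torsor given by a morphism to a node. -/
theorem exists_section {o : (fibCat (forget aU) y).obj} {V : Over S} {x : V ⟶ U} {s : V ⟶ y.P}
    (a : o ⟶ node x s) : ∃ σ : o.left.base ⟶ o.left.P, σ ≫ o.left.π = 𝟙 _ :=
  ⟨a.left.cart.lift (lift 1 a.left.base) (𝟙 _) (by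
    show lift 1 a.left.base ≫ snd G V = _
    rw [lift_snd, Category.id_comp]), a.left.cart.lift_snd _ _ _⟩

end Groth.Agent.H14.QARes
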